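import Mathlib.Algebra.Homology.Homotopy
import Mathlib.Algebra.Homology.ShortComplex.Exact
import Mathlib.Algebra.Homology.ShortComplex.PreservesHomology
import Mathlib.Algebra.Homology.Embedding.ExtendHomotopy
import Mathlib.Algebra.Homology.Embedding.Restriction
import Mathlib.Algebra.Homology.Embedding.IsSupported
import Mathlib.Algebra.Homology.Embedding.CochainComplex
import Mathlib.CategoryTheory.Abelian.Basic
import Mathlib.CategoryTheory.Preadditive.AdditiveFunctor

/-!
# Resolutions of complexes built from a natural embedding, split after a functor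
-/

set_option autoImplicit false
set_option linter.style.haveILetI false
set_option linter.unusedSectionVars false
set_option backward.isDefEq.respectTransparency false
set_option backward.isDefEq.respectTransparency.types false

universe v v' w w'

open CategoryTheory CategoryTheory.Limits

namespace Groth.Agent.H15Site.ResGod

variable {A : Type w} [Category.{v} A] [Abelian A] (T : A ⥤ A) [T.Additive] (u : 𝟭 A ⟶ T)

/-- The natural cokernel. -/
noncomputable def C : A ⥤ A where
  obj M := cokernel (u.app M)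
  map {M N} φ := cokernel.map _ _ φ (T.map φ) (u.naturality φ).symm
  map_id M := by ext; simp
  map_comp φ ψ := by ext; simp

instance additive_C : (C T u).Additive where
  map_add {M N φ ψ} := by
    refine coequalizer.hom_ext ?_
    show cokernel.π (u.app M) ≫ cokernel.desc _ _ _ = cokernel.π (u.app M) ≫ (cokernel.desc _ _ _ + cokernel.desc _ _ _)
    rw [Preadditive.comp_add]
    simp [T.map_add, Preadditive.add_comp]

/-- The projection. -/
noncomputable def P : T ⟶ C T u where
  app M := cokernel.π (u.app M)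
  naturality M N φ := (cokernel.π_desc _ _ _).symm

theorem u_P (M : A) : u.app M ≫ (P T u).app M = 0 := cokernel.condition _

/-- Degreewise cokernel. -/
noncomputable abbrev CC (F : CochainComplex A ℕ) : CochainComplex A ℕ :=
  ((C T u).mapHomologicalComplex (ComplexShape.up ℕ)).obj F

/-- The terms. -/
noncomputable def GX : ℕ → CochainComplex A ℕ → A
  | 0, F => T.obj (F.X 0)
  | k + 1, F => T.obj (F.X (k + 1)) ⊞ GX k (CC T u F)

/-- The embedding. -/
noncomputable def gι : ∀ (k : ℕ) (F : CochainComplex A ℕ), F.X k ⟶ GX T u k F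
  | 0, F => u.app (F.X 0)
  | k + 1, F => biprod.lift (u.app (F.X (k + 1))) 0

/-- The differential. -/
noncomputable def gd : ∀ (k : ℕ) (F : CochainComplex A ℕ), GX T u k F ⟶ GX T u (k + 1) F
  | 0, F => biprod.lift (T.map (F.d 0 1)) ((P T u).app (F.X 0) ≫ gι T u 0 (CC T u F))
  | k + 1, F => biprod.lift (biprod.fst ≫ T.map (F.d (k + 1) (k + 2)))
      ((biprod.fst : GX T u (k + 1) F ⟶ _) ≫ (P T u).app (F.X (k + 1)) ≫ gι T u (k + 1) (CC T u F) -
        (biprod.snd : GX T u (k + 1) F ⟶ _) ≫ gd k (CC T u F))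

theorem d_P (F : CochainComplex A ℕ) (k : ℕ) :
    T.map (F.d k (k + 1)) ≫ (P T u).app (F.X (k + 1)) = (P T u).app (F.X k) ≫ (CC T u F).d k (k + 1) :=
  (P T u).naturality _

theorem gι_gd : ∀ (k : ℕ) (F : CochainComplex A ℕ),
    gι T u k F ≫ gd T u k F = F.d k (k + 1) ≫ gι T u (k + 1) F := by
  intro k F
  cases k with
  | zero =>
    refine biprod.hom_ext _ _ ?_ ?_ <;>
      simp only [gι, gd, Category.assoc, biprod.lift_fst, biprod.lift_snd, comp_zero]
    · exact (u.naturality _).symm
    · rw [← Category.assoc, u_P, zero_comp]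
  | succ k =>
    refine biprod.hom_ext _ _ ?_ ?_ <;>
      simp only [gι, gd, Category.assoc, biprod.lift_fst, biprod.lift_snd, biprod.lift_fst_assoc,
        biprod.lift_snd_assoc, Preadditive.comp_sub, zero_comp, comp_zero, sub_zero]
    · exact (u.naturality _).symm
    · rw [← Category.assoc, u_P, zero_comp]

theorem gd_gd : ∀ (k : ℕ) (F : CochainComplex A ℕ), gd T u k F ≫ gd T u (k + 1) F = 0 := by
  intro k
  induction k with
  | zero =>
    intro F
    refine biprod.hom_ext _ _ ?_ ?_ <;>
      simp only [gd, Category.assoc, biprod.lift_fst, biprod.lift_snd, biprod.lift_fst_assoc,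
        biprod.lift_snd_assoc, Preadditive.comp_sub, zero_comp]
    · rw [← T.map_comp, F.d_comp_d, T.map_zero]
    · have h := gι_gd T u 0 (CC T u F)
      simp only [gd] at h
      rw [h, ← Category.assoc, d_P, Category.assoc]
      exact sub_self _
  | succ k ih =>
    intro F
    refine biprod.hom_ext _ _ ?_ ?_
    · show (gd T u (k + 1) F ≫ gd T u (k + 1 + 1) F) ≫ biprod.fst = 0 ≫ biprod.fst
      rw [Category.assoc, show gd T u (k + 1 + 1) F ≫ biprod.fst = biprod.fst ≫ T.map (F.d (k + 2) (k + 3)) from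
        biprod.lift_fst _ _, ← Category.assoc, show gd T u (k + 1) F ≫ biprod.fst =
          biprod.fst ≫ T.map (F.d (k + 1) (k + 2)) from biprod.lift_fst _ _, Category.assoc, ← T.map_comp,
        F.d_comp_d, T.map_zero, comp_zero, zero_comp]
    · show (gd T u (k + 1) F ≫ gd T u (k + 1 + 1) F) ≫ biprod.snd = 0 ≫ biprod.snd
      rw [Category.assoc, show gd T u (k + 1 + 1) F ≫ biprod.snd =
        (biprod.fst : GX T u (k + 2) F ⟶ _) ≫ (P T u).app (F.X (k + 2)) ≫ gι T u (k + 2) (CC T u F) -
          (biprod.snd : GX T u (k + 2) F ⟶ _) ≫ gd T u (k + 1) (CC T u F) from biprod.lift_snd _ _,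
        Preadditive.comp_sub, ← Category.assoc, show gd T u (k + 1) F ≫ biprod.fst =
          biprod.fst ≫ T.map (F.d (k + 1) (k + 2)) from biprod.lift_fst _ _, Category.assoc,
        ← Category.assoc (T.map _), d_P, Category.assoc, ← gι_gd,
        ← Category.assoc (gd T u (k + 1) F), show gd T u (k + 1) F ≫ biprod.snd =
        (biprod.fst : GX T u (k + 1) F ⟶ _) ≫ (P T u).app (F.X (k + 1)) ≫ gι T u (k + 1) (CC T u F) -
          (biprod.snd : GX T u (k + 1) F ⟶ _) ≫ gd T u k (CC T u F) from biprod.lift_snd _ _,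
        Preadditive.sub_comp]
      simp only [Category.assoc, ih, comp_zero, sub_zero, zero_comp]
      exact sub_self _

/-- The resolution. -/
noncomputable def G (F : CochainComplex A ℕ) : CochainComplex A ℕ :=
  CochainComplex.of (fun k => GX T u k F) (fun k => gd T u k F) (fun k => gd_gd T u k F)

theorem G_d (F : CochainComplex A ℕ) (k : ℕ) : (G T u F).d k (k + 1) = gd T u k F :=
  show CochainComplex.of.d (fun k => GX T u k F) (fun k => gd T u k F) k (k + 1) = gd T u k F from
    CochainComplex.of_d _ _ k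

/-- The map to the resolution. -/
noncomputable def ι (F : CochainComplex A ℕ) : F ⟶ G T u F where
  f k := gι T u k F
  comm' i j h := by
    obtain rfl : i + 1 = j := h
    rw [G_d]
    exact gι_gd T u i F

variable {B : Type w'} [Category.{v'} B] [Abelian B] (S : A ⥤ B) [S.Additive]
  (s : ∀ M, S.obj (T.obj M) ⟶ S.obj M)
  (hsn : ∀ {M N : A} (φ : M ⟶ N), S.map (T.map φ) ≫ s N = s M ≫ S.map φ)
  (hs : ∀ M, S.map (u.app M) ≫ s M = 𝟙 (S.obj M))
  (σ : ∀ M, S.obj ((C T u).obj M) ⟶ S.obj (T.obj M))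
  (hσn : ∀ {M N : A} (φ : M ⟶ N), S.map ((C T u).map φ) ≫ σ N = σ M ≫ S.map (T.map φ))
  (hσ : ∀ M, S.map ((P T u).app M) ≫ σ M + s M ≫ S.map (u.app M) = 𝟙 (S.obj (T.obj M)))
  (hσ' : ∀ M, σ M ≫ S.map ((P T u).app M) = 𝟙 (S.obj ((C T u).obj M)))

/-- The retraction. -/
noncomputable def gr : ∀ (k : ℕ) (F : CochainComplex A ℕ), S.obj (GX T u k F) ⟶ S.obj (F.X k)
  | 0, F => s (F.X 0)
  | k + 1, F => S.map (biprod.fst : GX T u (k + 1) F ⟶ _) ≫ s (F.X (k + 1))

/-- The homotopy. -/
noncomputable def gh : ∀ (k : ℕ) (F : CochainComplex A ℕ), S.obj (GX T u (k + 1) F) ⟶ S.obj (GX T u k F)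
  | 0, F => S.map (biprod.snd : GX T u 1 F ⟶ _) ≫ gr T u S s 0 (CC T u F) ≫ σ (F.X 0)
  | k + 1, F => S.map (biprod.snd : GX T u (k + 2) F ⟶ _) ≫ gr T u S s (k + 1) (CC T u F) ≫
      σ (F.X (k + 1)) ≫ S.map (biprod.inl : _ ⟶ GX T u (k + 1) F) -
    S.map (biprod.snd : GX T u (k + 2) F ⟶ _) ≫ gh k (CC T u F) ≫
      S.map (biprod.inr : _ ⟶ GX T u (k + 1) F)

theorem map_hom_ext {M N : A} {Z : B} {f g : Z ⟶ S.obj (M ⊞ N)}
    (h₁ : f ≫ S.map biprod.fst = g ≫ S.map biprod.fst) (h₂ : f ≫ S.map biprod.snd = g ≫ S.map biprod.snd) :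
    f = g := by
  rw [← Category.comp_id f, ← Category.comp_id g, ← S.map_id, ← biprod.total, S.map_add, S.map_comp,
    S.map_comp, Preadditive.comp_add, Preadditive.comp_add, ← Category.assoc, ← Category.assoc f,
    ← Category.assoc g, ← Category.assoc g, h₁, h₂]

include hs in
theorem gι_gr : ∀ (k : ℕ) (F : CochainComplex A ℕ),
    S.map (gι T u k F) ≫ gr T u S s k F = 𝟙 (S.obj (F.X k)) := by
  intro k F
  cases k with
  | zero => exact hs _
  | succ k => simp only [gι, gr, ← S.map_comp_assoc, biprod.lift_fst]; exact hs _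

include hsn in
theorem gd_gr : ∀ (k : ℕ) (F : CochainComplex A ℕ),
    S.map (gd T u k F) ≫ gr T u S s (k + 1) F = gr T u S s k F ≫ S.map (F.d k (k + 1)) := by
  intro k F
  cases k with
  | zero =>
    simp only [gd, gr, ← S.map_comp_assoc, biprod.lift_fst]
    exact hsn _
  | succ k =>
    simp only [gd, gr, ← S.map_comp_assoc, biprod.lift_fst]
    rw [S.map_comp, Category.assoc, Category.assoc]
    exact congrArg _ (hsn _)

theorem gι_gh : ∀ (k : ℕ) (F : CochainComplex A ℕ), S.map (gι T u (k + 1) F) ≫ gh T u S s σ k F = 0 := by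
  intro k F
  cases k with
  | zero => simp only [gh, gι, ← S.map_comp_assoc, biprod.lift_snd, S.map_zero, zero_comp]
  | succ k => simp only [gh, gι, Preadditive.comp_sub, ← S.map_comp_assoc, biprod.lift_snd, S.map_zero, zero_comp, sub_zero]

include hsn hσn in
/-- The first component of `h` followed by the differential. -/
theorem gh_gd_fst : ∀ (k : ℕ) (F : CochainComplex A ℕ),
    gh T u S s σ k F ≫ S.map (gd T u k F ≫ biprod.fst) =
      S.map (biprod.snd : GX T u (k + 1) F ⟶ _) ≫ S.map (gd T u k (CC T u F)) ≫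
        gr T u S s (k + 1) (CC T u F) ≫ σ (F.X (k + 1)) := by
  intro k F
  have hσn : σ (F.X k) ≫ S.map (T.map (F.d k (k + 1))) =
      S.map ((CC T u F).d k (k + 1)) ≫ σ (F.X (k + 1)) := (hσn (F.d k (k + 1))).symm
  rw [reassoc_of% gd_gr T u S s hsn k (CC T u F)]
  cases k with
  | zero =>
    simp only [gd, biprod.lift_fst, gh, gr, Category.assoc] at hσn ⊢
    rw [hσn]
  | succ k =>
    simp only [gd, biprod.lift_fst, gh, gr, Category.assoc, Preadditive.sub_comp, ← S.map_comp,
      biprod.inl_fst_assoc, biprod.inr_fst_assoc, zero_comp, comp_zero, sub_zero, S.map_zero] at hσn ⊢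
    rw [hσn]

theorem gι_snd (k : ℕ) (F : CochainComplex A ℕ) : gι T u (k + 1) F ≫ biprod.snd = 0 := biprod.lift_snd _ _

theorem gι_fst (k : ℕ) (F : CochainComplex A ℕ) :
    gι T u (k + 1) F ≫ biprod.fst = u.app (F.X (k + 1)) := biprod.lift_fst _ _

theorem gd_snd_succ (k : ℕ) (F : CochainComplex A ℕ) :
    gd T u (k + 1) F ≫ biprod.snd =
      (biprod.fst : GX T u (k + 1) F ⟶ _) ≫ (P T u).app (F.X (k + 1)) ≫ gι T u (k + 1) (CC T u F) -
        (biprod.snd : GX T u (k + 1) F ⟶ _) ≫ gd T u k (CC T u F) := biprod.lift_snd _ _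

theorem gh_fst (k : ℕ) (F : CochainComplex A ℕ) :
    gh T u S s σ (k + 1) F ≫ S.map biprod.fst =
      S.map (biprod.snd : GX T u (k + 2) F ⟶ _) ≫ gr T u S s (k + 1) (CC T u F) ≫ σ (F.X (k + 1)) := by
  simp only [gh, Preadditive.sub_comp, Category.assoc, ← S.map_comp]
  rw [biprod.inl_fst, biprod.inr_fst, S.map_zero, comp_zero, comp_zero, sub_zero, S.map_id, Category.comp_id]

theorem gh_snd (k : ℕ) (F : CochainComplex A ℕ) :
    gh T u S s σ (k + 1) F ≫ S.map biprod.snd =
      -(S.map (biprod.snd : GX T u (k + 2) F ⟶ _) ≫ gh T u S s σ k (CC T u F)) := by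
  simp only [gh, Preadditive.sub_comp, Category.assoc, ← S.map_comp]
  rw [biprod.inl_snd, biprod.inr_snd, S.map_zero, comp_zero, comp_zero, comp_zero, zero_sub, S.map_id,
    Category.comp_id]

include hs hσ in
theorem comm_zero (F : CochainComplex A ℕ) :
    S.map (gd T u 0 F) ≫ gh T u S s σ 0 F + gr T u S s 0 F ≫ S.map (gι T u 0 F) = 𝟙 (S.obj (GX T u 0 F)) := by
  have h1 : S.map (gd T u 0 F) ≫ gh T u S s σ 0 F = S.map ((P T u).app (F.X 0)) ≫ σ (F.X 0) := by
    show S.map (gd T u 0 F) ≫ S.map biprod.snd ≫ gr T u S s 0 (CC T u F) ≫ σ (F.X 0) = _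
    rw [← S.map_comp_assoc, show gd T u 0 F ≫ biprod.snd = (P T u).app (F.X 0) ≫ gι T u 0 (CC T u F) from
      biprod.lift_snd _ _, S.map_comp, Category.assoc, reassoc_of% gι_gr T u S s hs 0 (CC T u F)]
  rw [h1]
  exact hσ _

include hsn hs hσn hσ in
theorem comm_succ_fst (k : ℕ) (F : CochainComplex A ℕ) :
    (S.map (gd T u (k + 1) F) ≫ gh T u S s σ (k + 1) F + gh T u S s σ k F ≫ S.map (gd T u k F) +
      gr T u S s (k + 1) F ≫ S.map (gι T u (k + 1) F)) ≫ S.map biprod.fst =
      𝟙 (S.obj (GX T u (k + 1) F)) ≫ S.map biprod.fst := by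
  rw [Preadditive.add_comp, Preadditive.add_comp, Category.assoc, Category.assoc, Category.assoc,
    Category.id_comp, gh_fst, ← S.map_comp (gd T u k F), gh_gd_fst T u S s hsn σ hσn k F,
    ← S.map_comp (gι T u (k + 1) F), gι_fst, ← S.map_comp_assoc, gd_snd_succ, S.map_sub, S.map_comp,
    S.map_comp, S.map_comp, Preadditive.sub_comp, Category.assoc, Category.assoc, Category.assoc, sub_add_cancel,
    reassoc_of% gι_gr T u S s hs (k + 1) (CC T u F)]
  show _ + (S.map (biprod.fst : GX T u (k + 1) F ⟶ _) ≫ s (F.X (k + 1))) ≫ _ = _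
  rw [Category.assoc, ← Preadditive.comp_add, hσ]
  exact Category.comp_id _

include hsn hs hσn hσ hσ' in
theorem comm_succ : ∀ (k : ℕ) (F : CochainComplex A ℕ),
    S.map (gd T u (k + 1) F) ≫ gh T u S s σ (k + 1) F + gh T u S s σ k F ≫ S.map (gd T u k F) +
      gr T u S s (k + 1) F ≫ S.map (gι T u (k + 1) F) = 𝟙 (S.obj (GX T u (k + 1) F)) := by
  intro k
  induction k with
  | zero =>
    intro F
    refine map_hom_ext S (comm_succ_fst T u S s hsn hs σ hσn hσ 0 F) ?_
    have hh : gh T u S s σ 0 F ≫ S.map ((P T u).app (F.X 0) ≫ gι T u 0 (CC T u F)) =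
        S.map (biprod.snd : GX T u 1 F ⟶ _) ≫ gr T u S s 0 (CC T u F) ≫ S.map (gι T u 0 (CC T u F)) := by
      show (S.map biprod.snd ≫ gr T u S s 0 (CC T u F) ≫ σ (F.X 0)) ≫ _ = _
      rw [S.map_comp, Category.assoc, Category.assoc, reassoc_of% hσ' (F.X 0)]
    rw [Preadditive.add_comp, Preadditive.add_comp, Category.assoc, Category.assoc, Category.assoc,
      Category.id_comp, gh_snd, ← S.map_comp (gd T u 0 F), show gd T u 0 F ≫ biprod.snd =
        (P T u).app (F.X 0) ≫ gι T u 0 (CC T u F) from biprod.lift_snd _ _, hh, ← S.map_comp (gι T u 1 F),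
      gι_snd, S.map_zero, comp_zero, add_zero, Preadditive.comp_neg, ← S.map_comp_assoc, gd_snd_succ,
      S.map_sub, S.map_comp, S.map_comp, S.map_comp, Preadditive.sub_comp, Category.assoc, Category.assoc,
      Category.assoc, gι_gh, comp_zero, comp_zero, zero_sub, neg_neg, ← Preadditive.comp_add,
      comm_zero T u S s hs σ hσ (CC T u F)]
    exact Category.comp_id _
  | succ k ih =>
    intro F
    refine map_hom_ext S (comm_succ_fst T u S s hsn hs σ hσn hσ (k + 1) F) ?_
    have hh : gh T u S s σ (k + 1) F ≫ S.map (gd T u (k + 1) F ≫ biprod.snd) =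
        S.map (biprod.snd : GX T u (k + 2) F ⟶ _) ≫ (gh T u S s σ k (CC T u F) ≫ S.map (gd T u k (CC T u F)) +
          gr T u S s (k + 1) (CC T u F) ≫ S.map (gι T u (k + 1) (CC T u F))) := by
      rw [gd_snd_succ, S.map_sub, S.map_comp, S.map_comp, S.map_comp, Preadditive.comp_sub,
        ← Category.assoc (gh T u S s σ (k + 1) F), ← Category.assoc (gh T u S s σ (k + 1) F), gh_fst, gh_snd,
        Preadditive.neg_comp, sub_neg_eq_add, Category.assoc, Category.assoc, Category.assoc,
        reassoc_of% hσ' (F.X (k + 1)), Preadditive.comp_add]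
      exact add_comm _ _
    rw [Preadditive.add_comp, Preadditive.add_comp, Category.assoc, Category.assoc, Category.assoc,
      Category.id_comp, gh_snd, ← S.map_comp (gd T u (k + 1) F), hh, ← S.map_comp (gι T u (k + 2) F),
      gι_snd, S.map_zero, comp_zero, add_zero, Preadditive.comp_neg, ← S.map_comp_assoc, gd_snd_succ,
      S.map_sub, S.map_comp, S.map_comp, S.map_comp, Preadditive.sub_comp, Category.assoc, Category.assoc,
      Category.assoc, gι_gh, comp_zero, comp_zero, zero_sub, neg_neg, ← Preadditive.comp_add, ← add_assoc,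
      ih (CC T u F)]
    exact Category.comp_id _

include hsn hs hσn hσ hσ' in
/-- The embedding becomes a homotopy equivalence. -/
theorem exists_homotopyEquiv (F : CochainComplex A ℕ) :
    ∃ e : HomotopyEquiv ((S.mapHomologicalComplex (ComplexShape.up ℕ)).obj F)
        ((S.mapHomologicalComplex (ComplexShape.up ℕ)).obj (G T u F)),
      e.hom = (S.mapHomologicalComplex (ComplexShape.up ℕ)).map (ι T u F) := by
  let SF := (S.mapHomologicalComplex (ComplexShape.up ℕ)).obj F
  let SG := (S.mapHomologicalComplex (ComplexShape.up ℕ)).obj (G T u F)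
  let r : SG ⟶ SF :=
    { f := fun k => gr T u S s k F
      comm' := fun i j h => by
        obtain rfl : i + 1 = j := h
        show gr T u S s i F ≫ S.map (F.d i (i + 1)) = S.map ((G T u F).d i (i + 1)) ≫ _
        rw [G_d]
        exact (gd_gr T u S s hsn i F).symm }
  let h : ∀ i j, SG.X i ⟶ SG.X j := fun i j =>
    if e : j + 1 = i then eqToHom (congrArg (fun m => S.obj (GX T u m F)) e.symm) ≫ gh T u S s σ j F else 0
  have hh : ∀ j, h (j + 1) j = gh T u S s σ j F := fun j => by simp [h]
  let hinv : Homotopy (r ≫ (S.mapHomologicalComplex (ComplexShape.up ℕ)).map (ι T u F)) (𝟙 SG) :=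
    { hom := fun i j => -h i j
      zero := fun i j hij => by
        show -h i j = 0
        simp only [h]
        rw [dif_neg (show ¬ j + 1 = i from hij), neg_zero]
      comm := fun i => by
        have hd : ∀ j, SG.d j (j + 1) = S.map (gd T u j F) := fun j => congrArg S.map (G_d T u F j)
        cases i with
        | zero =>
          rw [Homotopy.dNext_cochainComplex, Homotopy.prevD_zero_cochainComplex]
          beta_reduce
          rw [hd, hh, Preadditive.comp_neg, add_zero]
          exact eq_neg_add_iff_add_eq.2 (comm_zero T u S s hs σ hσ F)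
        | succ i =>
          rw [Homotopy.dNext_cochainComplex, Homotopy.prevD_succ_cochainComplex]
          beta_reduce
          rw [hd, hd, hh, hh, Preadditive.comp_neg, Preadditive.neg_comp, ← neg_add]
          exact eq_neg_add_iff_add_eq.2 (comm_succ T u S s hsn hs σ hσn hσ hσ' i F) }
  refine ⟨⟨(S.mapHomologicalComplex (ComplexShape.up ℕ)).map (ι T u F), r, Homotopy.ofEq ?_, hinv⟩, rfl⟩
  ext k
  exact gι_gr T u S s hs k F

section Extend

variable {ι' ι'' : Type*} {c : ComplexShape ι'} {c' : ComplexShape ι''} (e : c.Embedding c') [e.IsRelIff]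

open HomologicalComplex in
/-- An additive functor commutes with extension. -/
theorem exists_mapExtendIso (K : HomologicalComplex A c) :
    ∃ ψ : (S.mapHomologicalComplex c').obj (K.extend e) ≅ ((S.mapHomologicalComplex c).obj K).extend e,
      ∀ (i : ι') (i' : ι'') (h : e.f i = i'), ψ.hom.f i' =
        S.map (K.extendXIso e h).hom ≫ (((S.mapHomologicalComplex c).obj K).extendXIso e h).inv := by
  classical
  have hz : ∀ i', (¬ ∃ i, e.f i = i') → IsZero (((S.mapHomologicalComplex c').obj (K.extend e)).X i') ∧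
      IsZero ((((S.mapHomologicalComplex c).obj K).extend e).X i') := fun i' hi =>
    ⟨S.map_isZero (K.isZero_extend_X e i' fun i h => hi ⟨i, h⟩),
      HomologicalComplex.isZero_extend_X _ e i' fun i h => hi ⟨i, h⟩⟩
  let φ : ∀ i', ((S.mapHomologicalComplex c').obj (K.extend e)).X i' ≅
      (((S.mapHomologicalComplex c).obj K).extend e).X i' := fun i' =>
    if hi : ∃ i, e.f i = i' then
      S.mapIso (K.extendXIso e hi.choose_spec) ≪≫
        (((S.mapHomologicalComplex c).obj K).extendXIso e hi.choose_spec).symm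
    else (hz i' hi).1.iso (hz i' hi).2
  have hφ : ∀ (i : ι') (i' : ι'') (h : e.f i = i'), (φ i').hom =
      S.map (K.extendXIso e h).hom ≫ (((S.mapHomologicalComplex c).obj K).extendXIso e h).inv := fun i i' h => by
    have hi : ∃ j, e.f j = i' := ⟨i, h⟩
    show (dite _ _ _ : ((S.mapHomologicalComplex c').obj (K.extend e)).X i' ≅ _).hom = _
    rw [dif_pos hi]
    have gen : ∀ (j : ι') (hj : e.f j = i'), j = i →
        S.map (K.extendXIso e hj).hom ≫ (((S.mapHomologicalComplex c).obj K).extendXIso e hj).inv =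
          S.map (K.extendXIso e h).hom ≫ (((S.mapHomologicalComplex c).obj K).extendXIso e h).inv := by
      rintro j hj rfl
      rfl
    exact gen _ hi.choose_spec (e.injective_f (hi.choose_spec.trans h.symm))
  refine ⟨Hom.isoOfComponents φ fun i' j' _ => ?_, hφ⟩
  by_cases hi : ∃ i, e.f i = i'
  · by_cases hj : ∃ j, e.f j = j'
    · obtain ⟨i, hi⟩ := hi
      obtain ⟨j, hj⟩ := hj
      show (φ i').hom ≫ (((S.mapHomologicalComplex c).obj K).extend e).d i' j' =
        S.map ((K.extend e).d i' j') ≫ (φ j').hom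
      rw [hφ i i' hi, hφ j j' hj, K.extend_d_eq e hi hj,
        ((S.mapHomologicalComplex c).obj K).extend_d_eq e hi hj]
      simp only [Category.assoc, Iso.inv_hom_id_assoc, Functor.map_comp, Functor.mapHomologicalComplex_obj_d]
      simp only [← S.map_comp_assoc, Iso.inv_hom_id, Category.comp_id]
    · exact (hz j' hj).2.eq_of_tgt _ _
  · exact (hz i' hi).1.eq_of_src _ _

open HomologicalComplex in
/-- The isomorphism to the extension of the restriction of a supported complex. -/
theorem exists_extendRestrictionIso (K : HomologicalComplex A c')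
    (hK : ∀ i', (∀ i, e.f i ≠ i') → IsZero (K.X i')) :
    Nonempty (K ≅ (K.restriction e).extend e) := by
  classical
  have hz : ∀ i', (¬ ∃ i, e.f i = i') → IsZero (K.X i') ∧ IsZero (((K.restriction e).extend e).X i') :=
    fun i' hi => ⟨hK i' fun i h => hi ⟨i, h⟩, HomologicalComplex.isZero_extend_X _ e i' fun i h => hi ⟨i, h⟩⟩
  let φ : ∀ i', K.X i' ≅ ((K.restriction e).extend e).X i' := fun i' =>
    if hi : ∃ i, e.f i = i' then
      (K.restrictionXIso e hi.choose_spec).symm ≪≫ ((K.restriction e).extendXIso e hi.choose_spec).symm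
    else (hz i' hi).1.iso (hz i' hi).2
  refine ⟨Hom.isoOfComponents φ fun i' j' _ => ?_⟩
  by_cases hi : ∃ i, e.f i = i'
  · by_cases hj : ∃ j, e.f j = j'
    · show (φ i').hom ≫ ((K.restriction e).extend e).d i' j' = K.d i' j' ≫ (φ j').hom
      simp only [φ]
      rw [dif_pos hi, dif_pos hj, (K.restriction e).extend_d_eq e hi.choose_spec hj.choose_spec,
        K.restriction_d_eq e hi.choose_spec hj.choose_spec]
      simp
    · exact (hz j' hj).2.eq_of_tgt _ _
  · exact (hz i' hi).1.eq_of_src _ _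

end Extend

/-- A bounded below complex has such a resolution which becomes a homotopy equivalence. -/
theorem exists_resolution (F : CochainComplex A ℤ) (a : ℤ) (hF : F.IsStrictlyGE a) :
    ∃ (G' : CochainComplex A ℤ) (φ : F ⟶ G'), G'.IsStrictlyGE a ∧
      (∀ n, IsZero (G'.X n) ∨ ∃ k, Nonempty (G'.X n ≅ GX T u k (F.restriction (ComplexShape.embeddingUpIntGE a)))) ∧
      ∀ (B' : Type w') [Category.{v'} B'] [Abelian B'] (S' : A ⥤ B') [S'.Additive]
        (s' : ∀ M, S'.obj (T.obj M) ⟶ S'.obj M)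
        (_ : ∀ {M N : A} (φ : M ⟶ N), S'.map (T.map φ) ≫ s' N = s' M ≫ S'.map φ)
        (_ : ∀ M, S'.map (u.app M) ≫ s' M = 𝟙 (S'.obj M))
        (σ' : ∀ M, S'.obj ((C T u).obj M) ⟶ S'.obj (T.obj M))
        (_ : ∀ {M N : A} (φ : M ⟶ N), S'.map ((C T u).map φ) ≫ σ' N = σ' M ≫ S'.map (T.map φ))
        (_ : ∀ M, S'.map ((P T u).app M) ≫ σ' M + s' M ≫ S'.map (u.app M) = 𝟙 (S'.obj (T.obj M)))
        (_ : ∀ M, σ' M ≫ S'.map ((P T u).app M) = 𝟙 (S'.obj ((C T u).obj M))),
        ∃ e : HomotopyEquiv ((S'.mapHomologicalComplex (ComplexShape.up ℤ)).obj F)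
            ((S'.mapHomologicalComplex (ComplexShape.up ℤ)).obj G'),
          e.hom = (S'.mapHomologicalComplex (ComplexShape.up ℤ)).map φ := by
  let em := ComplexShape.embeddingUpIntGE a
  let K := F.restriction em
  obtain ⟨α⟩ := exists_extendRestrictionIso em F (fun n hn => F.isZero_of_isStrictlyGE a n (by
    by_contra hlt
    exact hn (n - a).toNat (show a + ((n - a).toNat : ℤ) = n by omega)))
  refine ⟨(G T u K).extend em, α.hom ≫ HomologicalComplex.extendMap (ι T u K) em, ?_, fun n => ?_, ?_⟩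
  · rw [CochainComplex.isStrictlyGE_iff]
    exact fun n hn => HomologicalComplex.isZero_extend_X _ em n fun i hi => by
      have : a + (i : ℤ) = n := hi
      omega
  · by_cases hn : ∃ k, em.f k = n
    · obtain ⟨k, hk⟩ := hn
      exact Or.inr ⟨k, ⟨(G T u K).extendXIso em hk⟩⟩
    · exact Or.inl (HomologicalComplex.isZero_extend_X _ em n fun i h => hn ⟨i, h⟩)
  · intro B' _ _ S' _ s' hn hs' σ' hn' h₁ h₂
    obtain ⟨e, he⟩ := exists_homotopyEquiv T u S' s' hn hs' σ' hn' h₁ h₂ K
    obtain ⟨ψ₁, hψ₁⟩ := exists_mapExtendIso S' em K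
    obtain ⟨ψ₂, hψ₂⟩ := exists_mapExtendIso S' em (G T u K)
    let ee : HomotopyEquiv (((S'.mapHomologicalComplex (ComplexShape.up ℕ)).obj K).extend em)
        (((S'.mapHomologicalComplex (ComplexShape.up ℕ)).obj (G T u K)).extend em) :=
      ⟨HomologicalComplex.extendMap e.hom em, HomologicalComplex.extendMap e.inv em,
        (Homotopy.ofEq (HomologicalComplex.extendMap_comp e.hom e.inv em).symm).trans
          ((e.homotopyHomInvId.extend em).trans (Homotopy.ofEq (HomologicalComplex.extendMap_id _ em))),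
        (Homotopy.ofEq (HomologicalComplex.extendMap_comp e.inv e.hom em).symm).trans
          ((e.homotopyInvHomId.extend em).trans (Homotopy.ofEq (HomologicalComplex.extendMap_id _ em)))⟩
    refine ⟨(HomotopyEquiv.ofIso ((S'.mapHomologicalComplex (ComplexShape.up ℤ)).mapIso α ≪≫ ψ₁)).trans
      (ee.trans (HomotopyEquiv.ofIso ψ₂.symm)), ?_⟩
    show ((S'.mapHomologicalComplex _).map α.hom ≫ ψ₁.hom) ≫ HomologicalComplex.extendMap e.hom em ≫ ψ₂.inv = _
    rw [Functor.map_comp, Category.assoc, ← Category.assoc ψ₁.hom]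
    refine congrArg (_ ≫ ·) ((Iso.comp_inv_eq ψ₂).2 ?_)
    ext n
    by_cases hn : ∃ k, em.f k = n
    · obtain ⟨k, hk⟩ := hn
      simp only [HomologicalComplex.comp_f, hψ₁ k n hk, hψ₂ k n hk, HomologicalComplex.extendMap_f _ em hk,
        Functor.mapHomologicalComplex_map_f, he, Category.assoc, Iso.inv_hom_id_assoc]
      simp only [← Functor.map_comp_assoc, Category.assoc, Iso.inv_hom_id, Category.comp_id]
    · exact (HomologicalComplex.isZero_extend_X _ em n fun i h => hn ⟨i, h⟩).eq_of_tgt _ _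

end Groth.Agent.H15Site.ResGod
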