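import Groth.Agent.H15Site.ResGod.Abstract
import Groth.Agent.H15Site.Godement
import Groth.Prelude.Def_CohCx
import Mathlib.Algebra.Homology.ShortComplex.ExactFunctor
import Mathlib.Algebra.Homology.QuasiIso
import Mathlib.Topology.Sheaves.Skyscraper

/-!
# The Godement resolution of a bounded below complex of abelian sheaves
-/

set_option autoImplicit false
set_option linter.style.haveILetI false
set_option linter.unusedSectionVars false
set_option backward.isDefEq.respectTransparency false
set_option backward.isDefEq.respectTransparency.types false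

universe u

open CategoryTheory CategoryTheory.Limits Opposite TopologicalSpace

namespace Groth.Agent.H15Site.ResGod

open Groth.Agent.H10Coh Groth.Agent.H15Site.Godement

attribute [local instance 10000] hasSheafifyAb hasWeakSheafifyAb hasExtAb enoughInjAb

variable {X : TopCat.{u}}

/-- The stalk functor on sheaves. -/
noncomputable abbrev St (x : X) : CohTop.Ab X ⥤ AddCommGrpCat.{u} :=
  sheafToPresheaf (Opens.grothendieckTopology X) AddCommGrpCat.{u} ⋙
    TopCat.Presheaf.stalkFunctor AddCommGrpCat.{u} x

instance additive_god : (Godement.god (X := X)).Additive where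
  map_add {F G φ ψ} := by
    refine CategoryTheory.Sheaf.hom_ext ?_
    ext U s
    funext y
    show ((TopCat.Presheaf.stalkFunctor AddCommGrpCat.{u} y.1).map (φ + ψ).hom).hom (s y) = _
    rw [show (φ + ψ).hom = φ.hom + ψ.hom from rfl]
    have : (TopCat.Presheaf.stalkFunctor AddCommGrpCat.{u} y.1).map (φ.hom + ψ.hom) =
        (TopCat.Presheaf.stalkFunctor AddCommGrpCat.{u} y.1).map φ.hom +
          (TopCat.Presheaf.stalkFunctor AddCommGrpCat.{u} y.1).map ψ.hom := by
      refine TopCat.Presheaf.stalk_hom_ext _ fun U hU => ?_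
      ext s
      simp
    rw [this]
    rfl

theorem isLeftAdjoint_St (x : X) : (St x).IsLeftAdjoint := by
  classical
  exact (stalkSkyscraperSheafAdjunction (C := AddCommGrpCat.{u}) x).isLeftAdjoint

instance additive_St (x : X) : (St x).Additive := by
  have := isLeftAdjoint_St x
  have : PreservesBinaryBiproducts (St x) := preservesBinaryBiproducts_of_preservesBinaryCoproducts _
  exact Functor.additive_of_preservesBinaryBiproducts _

instance preservesHomology_St (x : X) : (St x).PreservesHomology := by
  have := isLeftAdjoint_St x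
  have : (St x).PreservesMonomorphisms := ⟨fun {F G} f hf => by
    rw [AddCommGrpCat.mono_iff_injective]
    refine TopCat.Presheaf.stalkFunctor_map_injective_of_app_injective (f := f.hom) (fun U => ?_) x
    have : Mono f.hom := inferInstanceAs (Mono ((sheafToPresheaf _ _).map f))
    rw [← AddCommGrpCat.mono_iff_injective]
    infer_instance⟩
  exact Functor.preservesHomology_of_preservesMonos_and_cokernels _

/-- Evaluation of a family at a point. -/
noncomputable def evU (x : X) (F : CohTop.Ab X) (U : Opens X) (hx : x ∈ U) :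
    (Godement.god.obj F).obj.obj (op U) ⟶ (St x).obj F :=
  AddCommGrpCat.ofHom
    { toFun := fun (s : ∀ y : {y : X // y ∈ (((Opens.map (toX X)).obj U) : Set (Xd X))}, CohTop.stalk F y.1) =>
        (show (St x).obj F from s ⟨x, hx⟩)
      map_zero' := rfl
      map_add' := fun _ _ => rfl }

/-- Evaluation at the point. -/
noncomputable def evAt (x : X) (F : CohTop.Ab X) : (St x).obj (Godement.god.obj F) ⟶ (St x).obj F :=
  colimit.desc _
    { pt := (St x).obj F
      ι :=
        { app := fun U => evU x F U.unop.1 U.unop.2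
          naturality := fun U V k => rfl } }

theorem germ_evAt (x : X) (F : CohTop.Ab X) (U : Opens X) (hx : x ∈ U)
    (s : (Godement.god.obj F).obj.obj (op U)) :
    (evAt x F).hom ((TopCat.Presheaf.germ (Godement.god.obj F).obj U x hx).hom s) = s ⟨x, hx⟩ := by
  unfold evAt TopCat.Presheaf.germ
  erw [colimit.ι_desc_apply]
  rfl

theorem evAt_natural (x : X) {F G : CohTop.Ab X} (φ : F ⟶ G) :
    (St x).map (Godement.god.map φ) ≫ evAt x G = evAt x F ≫ (St x).map φ := by
  refine TopCat.Presheaf.stalk_hom_ext _ fun U hU => ?_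
  ext s
  show (evAt x G).hom (((St x).map (Godement.god.map φ)).hom
    ((TopCat.Presheaf.germ (Godement.god.obj F).obj U x hU).hom s)) =
    ((St x).map φ).hom ((evAt x F).hom ((TopCat.Presheaf.germ (Godement.god.obj F).obj U x hU).hom s))
  rw [germ_evAt]
  show (evAt x G).hom (((TopCat.Presheaf.stalkFunctor AddCommGrpCat.{u} x).map (Godement.god.map φ).hom).hom _) = _
  erw [TopCat.Presheaf.stalkFunctor_map_germ_apply, germ_evAt]
  rfl

theorem toGod_evAt (x : X) (F : CohTop.Ab X) :
    (St x).map (Godement.toGod.app F) ≫ evAt x F = 𝟙 ((St x).obj F) := by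
  refine TopCat.Presheaf.stalk_hom_ext _ fun U hU => ?_
  ext s
  show (evAt x F).hom (((TopCat.Presheaf.stalkFunctor AddCommGrpCat.{u} x).map (Godement.toGod.app F).hom).hom
    ((TopCat.Presheaf.germ F.obj U x hU).hom s)) = (TopCat.Presheaf.germ F.obj U x hU).hom s
  erw [TopCat.Presheaf.stalkFunctor_map_germ_apply, germ_evAt]
  rfl

/-- The stalks split the cokernel sequence. -/
theorem exists_split (x : X) :
    ∃ σ : ∀ M, (St x).obj ((C Godement.god Godement.toGod).obj M) ⟶ (St x).obj (Godement.god.obj M),
      (∀ {M N : CohTop.Ab X} (φ : M ⟶ N), (St x).map ((C Godement.god Godement.toGod).map φ) ≫ σ N =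
        σ M ≫ (St x).map (Godement.god.map φ)) ∧
      (∀ M, (St x).map ((P Godement.god Godement.toGod).app M) ≫ σ M +
        evAt x M ≫ (St x).map (Godement.toGod.app M) = 𝟙 ((St x).obj (Godement.god.obj M))) ∧
      ∀ M, σ M ≫ (St x).map ((P Godement.god Godement.toGod).app M) =
        𝟙 ((St x).obj ((C Godement.god Godement.toGod).obj M)) := by
  have := isLeftAdjoint_St x
  let σ : ∀ M, (St x).obj ((C Godement.god Godement.toGod).obj M) ⟶ (St x).obj (Godement.god.obj M) := fun M =>
    (PreservesCokernel.iso (St x) (Godement.toGod.app M)).hom ≫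
      cokernel.desc _ (𝟙 _ - evAt x M ≫ (St x).map (Godement.toGod.app M)) (by
        rw [Preadditive.comp_sub, ← Category.assoc, toGod_evAt]
        exact (congrArg₂ (· - ·) (Category.comp_id _) (Category.id_comp _)).trans (sub_self _))
  have hP : ∀ M, (St x).map ((P Godement.god Godement.toGod).app M) ≫ σ M =
      𝟙 _ - evAt x M ≫ (St x).map (Godement.toGod.app M) := fun M => by
    show (St x).map (cokernel.π (Godement.toGod.app M)) ≫ (PreservesCokernel.iso (St x) (Godement.toGod.app M)).hom ≫ _ = _
    rw [← Category.assoc, PreservesCokernel.π_iso_hom, cokernel.π_desc]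
  have he : ∀ M, Epi ((St x).map ((P Godement.god Godement.toGod).app M)) := fun M => by
    have : Epi ((P Godement.god Godement.toGod).app M) := inferInstanceAs (Epi (cokernel.π _))
    infer_instance
  refine ⟨σ, fun {M N} φ => ?_, fun M => by rw [hP, sub_add_cancel], fun M => ?_⟩
  · rw [← cancel_epi ((St x).map ((P Godement.god Godement.toGod).app M)), ← Functor.map_comp_assoc,
      ← (P Godement.god Godement.toGod).naturality, Functor.map_comp, Category.assoc, hP, ← Category.assoc _ (σ M), hP,
      Preadditive.comp_sub, Preadditive.sub_comp, Category.comp_id, Category.id_comp, ← Category.assoc,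
      evAt_natural, Category.assoc, Category.assoc, ← Functor.map_comp, ← Functor.map_comp,
      ← Godement.toGod.naturality]
    rfl
  · rw [← cancel_epi ((St x).map ((P Godement.god Godement.toGod).app M)), ← Category.assoc, hP,
      Preadditive.sub_comp, Category.id_comp, Category.assoc, ← Functor.map_comp, u_P, Functor.map_zero,
      comp_zero, sub_zero, Category.comp_id]

theorem flasque_biprod {F G : CohTop.Ab X} (hF : Flasque F) (hG : Flasque G) : Flasque (F ⊞ G) := by
  intro U V h s
  obtain ⟨t₁, ht₁⟩ := hF h ((biprod.fst : F ⊞ G ⟶ F).hom.app (op V) s)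
  obtain ⟨t₂, ht₂⟩ := hG h ((biprod.snd : F ⊞ G ⟶ G).hom.app (op V) s)
  refine ⟨(biprod.inl : F ⟶ F ⊞ G).hom.app (op U) t₁ + (biprod.inr : G ⟶ F ⊞ G).hom.app (op U) t₂, ?_⟩
  have key := congrArg (fun k : F ⊞ G ⟶ F ⊞ G => k.hom.app (op V) s) (biprod.total : _ = 𝟙 (F ⊞ G))
  rw [map_add, ← NatTrans.naturality_apply, ← NatTrans.naturality_apply, ht₁, ht₂]
  exact key

theorem flasque_zero {F : CohTop.Ab X} (h : IsZero F) : Flasque F := by
  intro U V hUV s
  refine ⟨0, ?_⟩
  have key := congrArg (fun k : F ⟶ F => k.hom.app (op V) s) (h.eq_of_src 0 (𝟙 F))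
  rw [map_zero]
  exact key

theorem flasque_GX : ∀ (k : ℕ) (F : CochainComplex (CohTop.Ab X) ℕ),
    Flasque (GX Godement.god Godement.toGod k F) := by
  intro k
  induction k with
  | zero => exact fun F => Godement.flasque_god _
  | succ k ih => exact fun F => flasque_biprod (Godement.flasque_god _) (ih _)

theorem flasque_of_iso {F G : CohTop.Ab X} (e : F ≅ G) (hG : Flasque G) : Flasque F := by
  intro U V h s
  obtain ⟨t, ht⟩ := hG h (e.hom.hom.app (op V) s)
  refine ⟨e.inv.hom.app (op U) t, ?_⟩
  have key := congrArg (fun k : F ⟶ F => k.hom.app (op V) s) e.hom_inv_id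
  rw [← NatTrans.naturality_apply, ht]
  exact key

/-- Stalkwise homotopy equivalences are quasi-isomorphisms. -/
theorem quasiIso_of_stalk {F G : CochainComplex (CohTop.Ab X) ℤ} (φ : F ⟶ G)
    (h : ∀ x : X, QuasiIso ((CohCx.stalkCx x).map φ)) : QuasiIso φ := by
  rw [quasiIso_iff]
  intro n
  rw [quasiIsoAt_iff, ShortComplex.quasiIso_iff]
  let k := ShortComplex.homologyMap ((HomologicalComplex.shortComplexFunctor _ (ComplexShape.up ℤ) n).map φ)
  suffices ∀ x : X, IsIso ((St x).map k) by
    have : ∀ x : X, IsIso ((TopCat.Presheaf.stalkFunctor AddCommGrpCat.{u} x).map k.hom) := this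
    exact TopCat.Presheaf.isIso_of_stalkFunctor_map_iso (C := AddCommGrpCat.{u}) k
  intro x
  have h1 : IsIso (ShortComplex.homologyMap ((St x).mapShortComplex.map
      ((HomologicalComplex.shortComplexFunctor _ (ComplexShape.up ℤ) n).map φ))) := by
    have := (h x).quasiIsoAt n
    rw [quasiIsoAt_iff, ShortComplex.quasiIso_iff] at this
    exact this
  exact (NatIso.isIso_map_iff (ShortComplex.homologyFunctorIso (St x)) _).1 h1

theorem exists_quasiIso_flasque (F : CochainComplex (CohTop.Ab X) ℤ) (a : ℤ) (hF : F.IsStrictlyGE a) :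
    ∃ (G : CochainComplex (CohTop.Ab X) ℤ) (φ : F ⟶ G), G.IsStrictlyGE a ∧ QuasiIso φ ∧
      (∀ n : ℤ, Flasque (G.X n)) ∧
      ∀ x : X, ∃ e : HomotopyEquiv ((CohCx.stalkCx x).obj F) ((CohCx.stalkCx x).obj G),
        e.hom = (CohCx.stalkCx x).map φ := by
  obtain ⟨G, φ, hG, hX, hS⟩ := exists_resolution.{u, u, u + 1, u + 1} Godement.god Godement.toGod F a hF
  have hh : ∀ x : X, ∃ e : HomotopyEquiv ((CohCx.stalkCx x).obj F) ((CohCx.stalkCx x).obj G),
      e.hom = (CohCx.stalkCx x).map φ := fun x => by
    obtain ⟨σ, h1, h2, h3⟩ := exists_split x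
    exact hS AddCommGrpCat.{u} (St x) (evAt x) (fun φ => evAt_natural x φ) (toGod_evAt x) σ h1 h2 h3
  refine ⟨G, φ, hG, quasiIso_of_stalk φ fun x => ?_, fun n => ?_, hh⟩
  · obtain ⟨e, he⟩ := hh x
    rw [← he]
    infer_instance
  · rcases hX n with h | ⟨k, ⟨e⟩⟩
    · exact flasque_zero h
    · exact flasque_of_iso e (flasque_GX k _)

end Groth.Agent.H15Site.ResGod
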